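import Mathlib
import Cfsg.Agent.Lib.Recog.Derangement

/-!
# Finite groups with two conjugacy class sizes (Itô, Isaacs)
-/

set_option autoImplicit false
set_option linter.style.haveILetI false

namespace Cfsg.Lib.TwoSizes

open Subgroup
open scoped IsMulCommutative Pointwise

universe u

variable {G : Type u} [Group G]

local notation "Cx" x => Subgroup.centralizer ({x} : Set _)

/-- conjugation on a subgroup by its normalizer -/
def conjOn (A : Subgroup G) : (normalizer (A : Set G)) →* MulAut A where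
  toFun u :=
    { toFun := fun a => ⟨u * a * (u : G)⁻¹, (mem_normalizer_iff.mp u.2 a).mp a.2⟩
      invFun := fun a => ⟨(u : G)⁻¹ * a * u, by
        have h := (mem_normalizer_iff.mp u.2 ((u : G)⁻¹ * a * u)).mpr
        apply h
        have he : (u : G) * ((u : G)⁻¹ * a * u) * (u : G)⁻¹ = a := by group
        rw [he]; exact a.2⟩
      left_inv := fun a => by apply Subtype.ext; simp; group
      right_inv := fun a => by apply Subtype.ext; simp; group
      map_mul' := fun a b => by apply Subtype.ext; simp }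
  map_one' := by ext a; simp
  map_mul' := fun u v => by ext a; simp; group

@[simp] theorem conjOn_apply (A : Subgroup G) (u : normalizer (A : Set G)) (a : A) :
    ((conjOn A u a : A) : G) = u * a * (u : G)⁻¹ := rfl

/-- `(a u) ^ k = (∏ u^i a u^-i) u^k` -/
theorem mul_pow_eq_norm (A : Subgroup G) [IsMulCommutative A] (u : normalizer (A : Set G)) (a : A)
    (k : ℕ) : ((a : G) * u) ^ k
      = ((∏ i ∈ Finset.range k, (conjOn A u ^ i) a : A) : G) * (u : G) ^ k := by
  induction k with
  | zero => simp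
  | succ k ih =>
    rw [pow_succ' ((a : G) * u), ih, Finset.prod_range_succ']
    simp only [pow_zero, MulAut.one_apply, Subgroup.coe_mul]
    have h1 : (∏ i ∈ Finset.range k, (conjOn A u ^ (i + 1)) a : A)
        = conjOn A u (∏ i ∈ Finset.range k, (conjOn A u ^ i) a) := by
      rw [map_prod]
      refine Finset.prod_congr rfl fun i _ => ?_
      rw [pow_succ', MulAut.mul_apply]
    rw [h1, conjOn_apply, pow_succ' (u : G)]
    set P : A := ∏ i ∈ Finset.range k, (conjOn A u ^ i) a
    have hc : ((u : G) * P * (u : G)⁻¹) * a = a * ((u : G) * P * (u : G)⁻¹) := by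
      have := setLike_mul_comm (s := A) ((conjOn A u P).2) a.2
      simpa using this
    rw [hc]
    group

/-- The norm identity for a group of type `(p, p)`. -/
theorem norm_key (A Z : Subgroup G) [IsMulCommutative A] {p : ℕ} (hp : p.Prime)
    (g h : normalizer (A : Set G)) (hgA : (g : G) ^ p ∈ A)
    (hcomm : ∀ a : A, ((g : G) * h * (g : G)⁻¹ * (h : G)⁻¹) * a = a * ((g : G) * h * (g : G)⁻¹ * (h : G)⁻¹))
    (hZ : ∀ u : normalizer (A : Set G), (u = g ∨ ∃ t : ℕ, u = h * g ^ t) →
      ∀ a : A, ((a : G) * u) ^ p ∈ Z)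
    (a : A) : (a : G) ^ p ∈ Z := by
  classical
  set ρ := conjOn A with hρ
  have htriv' : ∀ w : normalizer (A : Set G), (∀ b : A, (w : G) * b = b * w) → ρ w = 1 := by
    intro w hw
    ext b
    simp [hρ, hw b]
  have htriv : ∀ w : normalizer (A : Set G), (w : G) ∈ A → ρ w = 1 := fun w hw =>
    htriv' w fun b => setLike_mul_comm (s := A) hw b.2
  have hgp : ρ g ^ p = 1 := by
    rw [← map_pow]; exact htriv _ (by simpa using hgA)
  have hcm : Commute (ρ h) (ρ g) := by
    have h1 : ρ (g * h * g⁻¹ * h⁻¹) = 1 := htriv' _ (fun b => by simpa using hcomm b)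
    simp only [map_mul, map_inv] at h1
    rw [mul_inv_eq_one, mul_inv_eq_iff_eq_mul] at h1
    exact h1.symm
  -- the norms lie in `Z`
  have hN : ∀ u : normalizer (A : Set G), (u = g ∨ ∃ t : ℕ, u = h * g ^ t) → ∀ b : A,
      ((∏ i ∈ Finset.range p, (ρ u ^ i) b : A) : G) ∈ Z := by
    intro u hu b
    have h1 := hZ u hu b
    have h2 := hZ u hu 1
    rw [mul_pow_eq_norm] at h1
    simp only [OneMemClass.coe_one, one_mul] at h2
    exact (Z.mul_mem_cancel_right h2).mp h1
  -- the sum over the lines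
  set F : A := ∏ t ∈ Finset.range p, ∏ i ∈ Finset.range p, (ρ (h * g ^ t) ^ i) a with hF
  have hFZ : (F : G) ∈ Z := by
    rw [hF]
    show _ ∈ Z.comap A.subtype
    refine Subgroup.prod_mem _ fun t _ => ?_
    exact hN _ (Or.inr ⟨t, rfl⟩) a
  obtain ⟨m, rfl⟩ : ∃ m, p = m + 1 := ⟨p - 1, by have := hp.pos; omega⟩
  set E : A := ∏ j ∈ Finset.range m, ∏ s ∈ Finset.range (m + 1), (ρ g ^ s) ((ρ h ^ (j + 1)) a)
    with hE
  have hEZ : (E : G) ∈ Z := by
    rw [hE]
    show _ ∈ Z.comap A.subtype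
    refine Subgroup.prod_mem _ fun t _ => ?_
    exact hN g (Or.inl rfl) _
  have hFE : F = E * a ^ (m + 1) := by
    rw [hF, Finset.prod_comm, Finset.prod_range_succ']
    simp only [pow_zero, MulAut.one_apply, Finset.prod_const, Finset.card_range]
    congr 1
    rw [hE]
    refine Finset.prod_congr rfl fun j hj => ?_
    have hj' : j + 1 < m + 1 := by have := Finset.mem_range.mp hj; omega
    have hterm : ∀ t : ℕ, (ρ (h * g ^ t) ^ (j + 1)) a
        = (ρ g ^ (t * (j + 1) % (m + 1))) ((ρ h ^ (j + 1)) a) := by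
      intro t
      rw [← pow_eq_pow_mod (t * (j + 1)) hgp, map_mul, map_pow, (hcm.pow_right t).mul_pow,
        ← pow_mul, ((hcm.pow_left (j + 1)).pow_right (t * (j + 1))).eq, MulAut.mul_apply]
    simp only [hterm]
    have hinj : Set.InjOn (fun t => t * (j + 1) % (m + 1)) (Finset.range (m + 1) : Set ℕ) := by
      intro x hx y hy hxy
      simp only [Finset.coe_range, Set.mem_Iio] at hx hy
      have hco : Nat.Coprime (m + 1) (j + 1) :=
        (hp.coprime_iff_not_dvd.mpr fun hd => absurd (Nat.le_of_dvd (by omega) hd) (by omega))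
      have := Nat.ModEq.cancel_right_of_coprime hco (show x * (j + 1) ≡ y * (j + 1) [MOD m + 1] from hxy)
      exact Nat.ModEq.eq_of_lt_of_lt this hx hy
    have hmaps : Set.MapsTo (fun t => t * (j + 1) % (m + 1)) (Finset.range (m + 1) : Set ℕ)
        (Finset.range (m + 1) : Set ℕ) := fun x _ => by
      simp only [Finset.coe_range, Set.mem_Iio]
      exact Nat.mod_lt _ (by omega)
    exact Finset.prod_nbij (fun t => t * (j + 1) % (m + 1)) (fun x hx => hmaps hx) hinj
      (Finset.surjOn_of_injOn_of_card_le _ hmaps hinj le_rfl) (fun x _ => rfl)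
  have := congrArg (fun x : A => (x : G)) hFE
  simp only [Subgroup.coe_mul, SubmonoidClass.coe_pow] at this
  rw [this] at hFZ
  exact (Z.mul_mem_cancel_left hEZ).mp hFZ

theorem norm_key_normal (A Z : Subgroup G) [A.Normal] [IsMulCommutative A] {p : ℕ} (hp : p.Prime)
    (g h : G) (hgA : g ^ p ∈ A)
    (hcomm : ∀ a : A, (g * h * g⁻¹ * h⁻¹) * a = a * (g * h * g⁻¹ * h⁻¹))
    (hZ : ∀ u : G, (u = g ∨ ∃ t : ℕ, u = h * g ^ t) → ∀ a : A, ((a : G) * u) ^ p ∈ Z)
    (a : A) : (a : G) ^ p ∈ Z := by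
  have hm : ∀ u : G, u ∈ normalizer (A : Set G) := fun u => by
    rw [normalizer_eq_top]; exact mem_top u
  refine norm_key A Z hp ⟨g, hm g⟩ ⟨h, hm h⟩ hgA hcomm (fun u hu b => hZ u ?_ b) a
  rcases hu with rfl | ⟨t, rfl⟩
  · exact Or.inl rfl
  · exact Or.inr ⟨t, by simp⟩

/-- centralizers of non-central elements are not nested -/
def Flat (G : Type u) [Group G] : Prop :=
  ∀ x y : G, x ∉ center G → y ∉ center G → (Cx x) ≤ (Cx y) → (Cx x) = Cx y

theorem self_mem (x : G) : x ∈ Cx x := mem_centralizer_singleton_iff.mpr rfl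

theorem le_pow (x : G) (k : ℕ) : (Cx x) ≤ Cx (x ^ k) := by
  intro c hc
  rw [mem_centralizer_singleton_iff] at hc ⊢
  exact (Commute.pow_right hc k)

theorem flat_pow (hF : Flat G) {x : G} {k : ℕ} (hk : x ^ k ∉ center G) :
    (Cx x) = Cx (x ^ k) :=
  hF x _ (fun h => hk ((center G).pow_mem h k)) hk (le_pow x k)

theorem cx_mul_central {x z : G} (hz : z ∈ center G) : (Cx (x * z)) = Cx x := by
  ext c
  simp only [mem_centralizer_singleton_iff]
  have h := mem_center_iff.mp hz c
  constructor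
  · intro e
    rw [← mul_assoc, mul_assoc x z c, ← h, ← mul_assoc] at e
    exact mul_right_cancel e
  · intro e
    rw [← mul_assoc, e, mul_assoc, h, mul_assoc]

theorem center_le_cx (x : G) : center G ≤ Cx x := fun z hz =>
  mem_centralizer_singleton_iff.mpr (mem_center_iff.mp hz x).symm

theorem cx_ne_top {x : G} (hx : x ∉ center G) : (Cx x) ≠ ⊤ := fun h =>
  hx (mem_center_iff.mpr fun g => mem_centralizer_singleton_iff.mp (h ▸ mem_top g))

/-- `g x g⁻¹ = x c` with central `c`: normalizing and powers -/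
theorem twist {x : G} (hx : ∀ g : G, g * x * g⁻¹ * x⁻¹ ∈ center G) :
    (Cx x).Normal ∧ (∀ g h : G, g * h * g⁻¹ * h⁻¹ ∈ Cx x) ∧
      ∀ (k : ℕ), x ^ k ∈ center G → ∀ g : G, g ^ k ∈ Cx x := by
  have hmul : ∀ g h : G, (g * h) * x * (g * h)⁻¹ * x⁻¹
      = (g * x * g⁻¹ * x⁻¹) * (h * x * h⁻¹ * x⁻¹) := by
    intro g h
    calc (g * h) * x * (g * h)⁻¹ * x⁻¹
        = g * (h * x * h⁻¹ * x⁻¹) * (x * g⁻¹ * x⁻¹) := by group
      _ = (h * x * h⁻¹ * x⁻¹) * g * (x * g⁻¹ * x⁻¹) := by rw [mem_center_iff.mp (hx h) g]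
      _ = (h * x * h⁻¹ * x⁻¹) * (g * x * g⁻¹ * x⁻¹) := by group
      _ = _ := (mem_center_iff.mp (hx h) _).symm
  let φ : G →* G :=
    { toFun := fun g => g * x * g⁻¹ * x⁻¹
      map_one' := by group
      map_mul' := hmul }
  have hker : φ.ker = Cx x := by
    ext g
    simp only [MonoidHom.mem_ker, mem_centralizer_singleton_iff]
    show g * x * g⁻¹ * x⁻¹ = 1 ↔ _
    rw [mul_inv_eq_one, mul_inv_eq_iff_eq_mul]
  refine ⟨hker ▸ φ.normal_ker, fun g h => ?_, fun k hk g => ?_⟩
  · rw [← hker, MonoidHom.mem_ker, map_mul, map_mul, map_mul, map_inv, map_inv]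
    have hc : φ g * φ h = φ h * φ g := mem_center_iff.mp (hx h) (φ g)
    rw [hc]; group
  · rw [← hker, MonoidHom.mem_ker, map_pow]
    have e : g * x * g⁻¹ = (g * x * g⁻¹ * x⁻¹) * x := by group
    have hc : Commute (g * x * g⁻¹ * x⁻¹) x := (mem_center_iff.mp (hx g) x).symm
    have e2 : g * x ^ k * g⁻¹ = (g * x * g⁻¹ * x⁻¹) ^ k * x ^ k := by
      rw [← conj_pow, ← hc.mul_pow]; congr 1
    rw [mem_center_iff.mp hk g, mul_inv_cancel_right] at e2
    exact mul_eq_right.mp e2.symm

/-- In a flat `p`-group the `p`-th powers outside `C(x)` are central and the others lie in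
the centre of `C(x)`. -/
theorem pgroup_pow_mem [Finite G] {p : ℕ} [hp : Fact p.Prime] (hG : IsPGroup p G) (hF : Flat G)
    (hne : center G ≠ ⊤) :
    ∃ x : G, x ∉ center G ∧ (∀ g : G, g * x * g⁻¹ * x⁻¹ ∈ center G) ∧ x ^ p ∈ center G ∧
      (∀ g : G, g ∉ (Cx x) → g ^ p ∈ center G) ∧
      (∀ g : G, g ^ p ∉ center G → (Cx g) = Cx x) := by
  haveI : Nontrivial (G ⧸ center G) := QuotientGroup.nontrivial_iff.mpr hne
  have hQ : IsPGroup p (G ⧸ center G) := hG.to_quotient _
  haveI := hQ.center_nontrivial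
  have hd : p ∣ Nat.card (center (G ⧸ center G)) := by
    obtain ⟨n, hn0, hn⟩ := (hQ.to_subgroup (center (G ⧸ center G))).nontrivial_iff_card.mp hQ.center_nontrivial
    rw [hn]; exact dvd_pow_self p (by omega)
  obtain ⟨z, hz⟩ := exists_prime_orderOf_dvd_card' p hd
  obtain ⟨x, hx⟩ := QuotientGroup.mk'_surjective (center G) (z : G ⧸ center G)
  have hxZ : x ∉ center G := by
    intro h
    have h1 : (z : G ⧸ center G) = 1 := by
      rw [← hx, QuotientGroup.mk'_apply, QuotientGroup.eq_one_iff]; exact h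
    rw [show z = 1 from Subtype.ext h1, orderOf_one] at hz
    exact hp.out.one_lt.ne hz
  have hcm : ∀ g : G, g * x * g⁻¹ * x⁻¹ ∈ center G := by
    intro g
    rw [← QuotientGroup.eq_one_iff]
    have := mem_center_iff.mp z.2 (g : G ⧸ center G)
    rw [← hx, QuotientGroup.mk'_apply] at this
    simp only [QuotientGroup.mk_mul, QuotientGroup.mk_inv]
    rw [this]; group
  have hxp : x ^ p ∈ center G := by
    rw [← QuotientGroup.eq_one_iff, QuotientGroup.mk_pow, ← QuotientGroup.mk'_apply, hx]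
    have h1 : z ^ p = 1 := hz ▸ pow_orderOf_eq_one z
    exact_mod_cast congrArg Subtype.val h1
  obtain ⟨-, -, hpow⟩ := twist hcm
  have hA : ∀ g : G, g ∉ (Cx x) → g ^ p ∈ center G := by
    intro g hg
    by_contra hgp
    have h1 := flat_pow hF hgp
    have h2 : x ∈ Cx (g ^ p) := by
      rw [mem_centralizer_singleton_iff]
      exact (mem_centralizer_singleton_iff.mp (hpow p hxp g)).symm
    rw [← h1, mem_centralizer_singleton_iff] at h2
    exact hg (mem_centralizer_singleton_iff.mpr h2.symm)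
  refine ⟨x, hxZ, hcm, hxp, hA, fun g hgp => ?_⟩
  have hgK : g ∈ Cx x := by_contra fun h => hgp (hA g h)
  have hc : Commute g x := mem_centralizer_singleton_iff.mp hgK
  have hgxp : (g * x) ^ p ∉ center G := by
    rw [hc.mul_pow, (center G).mul_mem_cancel_right hxp]; exact hgp
  have h1 : (Cx (g * x)) = Cx g := by
    rw [flat_pow hF hgxp, hc.mul_pow, cx_mul_central hxp, ← flat_pow hF hgp]
  refine hF g x (fun h => hgp ((center G).pow_mem h p)) hxZ fun c hc' => ?_
  have h2 : c ∈ Cx (g * x) := h1 ▸ hc'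
  rw [mem_centralizer_singleton_iff] at h2 hc' ⊢
  rw [← mul_assoc, hc', mul_assoc, mul_assoc] at h2
  exact mul_left_cancel h2

/-- `A = Z(C(x))` inside the group -/
theorem pgroup_abelian_normal [Finite G] {p : ℕ} [Fact p.Prime] (hG : IsPGroup p G) (hF : Flat G) :
    ∃ A : Subgroup G, A.Normal ∧ IsMulCommutative A ∧ ∀ g : G, g ^ p ∈ A := by
  by_cases hne : center G = ⊤
  · exact ⟨center G, inferInstance, inferInstance, fun g => hne ▸ mem_top _⟩
  obtain ⟨x, hx, hcm, hxp, hA, hB⟩ := pgroup_pow_mem hG hF hne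
  haveI : (Cx x).Normal := (twist hcm).1
  haveI : (centralizer ((Cx x : Subgroup G) : Set G)).Normal := inferInstance
  refine ⟨(Cx x) ⊓ centralizer ((Cx x : Subgroup G) : Set G), inferInstance, ⟨⟨fun a b => ?_⟩⟩,
    fun g => ?_⟩
  · exact Subtype.ext (mem_centralizer_iff.mp b.2.2 a a.2.1)
  · by_cases hg : g ^ p ∈ center G
    · exact ⟨center_le_cx x hg, center_le_centralizer _ hg⟩
    · refine ⟨?_, mem_centralizer_iff.mpr fun c hc => ?_⟩
      · exact (Cx x).pow_mem (hB g hg ▸ self_mem g) p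
      · exact mem_centralizer_singleton_iff.mp (le_pow g p (hB g hg ▸ hc))

/-- Isaacs: two class sizes in a `p`-group force `P/Z(P)` to have exponent `p`. -/
theorem pgroup_pow_mem_center [Finite G] {p : ℕ} [hp : Fact p.Prime] (hG : IsPGroup p G) {n : ℕ}
    (hn : ∀ x : G, x ∉ center G → (Cx x).index = n) (g₀ : G) : g₀ ^ p ∈ center G := by
  classical
  have hF : Flat G := by
    intro a b ha hb hab
    by_contra hne
    exact absurd (Subgroup.index_strictAnti (lt_of_le_of_ne hab hne)) (by rw [hn a ha, hn b hb]; exact lt_irrefl _)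
  by_contra hg₀
  have hne : center G ≠ ⊤ := fun h => hg₀ (h ▸ mem_top _)
  obtain ⟨x, hx, hcm, hxp, hA, hB⟩ := pgroup_pow_mem hG hF hne
  obtain ⟨hKn, hKc, hKp⟩ := twist hcm
  haveI := hKn
  have hgK : (Cx g₀) = Cx x := hB g₀ hg₀
  set K : Subgroup G := Cx x with hK
  haveI : (centralizer (K : Set G)).Normal := inferInstance
  let A : Subgroup G := K ⊓ centralizer (K : Set G)
  haveI : IsMulCommutative A :=
    ⟨⟨fun a b => Subtype.ext (mem_centralizer_iff.mp b.2.2 a a.2.1)⟩⟩
  haveI hAnorm : A.Normal := inferInstance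
  have hAn : ∀ u : G, u ∈ normalizer (A : Set G) := fun u => by
    rw [normalizer_eq_top]; exact mem_top u
  have hg₀A : g₀ ∈ A := ⟨hgK ▸ self_mem g₀, mem_centralizer_iff.mpr fun c hc => by
    have : c ∈ Cx g₀ := hgK.symm ▸ hc
    exact mem_centralizer_singleton_iff.mp this⟩
  -- the key identity
  have key : ∀ g h : G, g ∉ K → h ∉ K ⊔ zpowers g → False := by
    intro g h hg hh
    have hgpA : g ^ p ∈ A := ⟨center_le_cx x (hA g hg), center_le_centralizer _ (hA g hg)⟩
    have hout : ∀ u : G, (u = g ∨ ∃ t : ℕ, u = h * g ^ t) → u ∉ K := by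
      rintro u (rfl | ⟨t, rfl⟩) hu
      · exact hg hu
      · refine hh ?_
        have h1 : g ^ t ∈ K ⊔ zpowers g := mem_sup_right (npow_mem_zpowers g t)
        exact ((K ⊔ zpowers g).mul_mem_cancel_right h1).mp (mem_sup_left hu)
    refine hg₀ (norm_key_normal A (center G) hp.out g h hgpA ?_ (fun u hu a => hA _ ?_) ⟨g₀, hg₀A⟩)
    · intro a
      have hk : g * h * g⁻¹ * h⁻¹ ∈ K := hKc g h
      exact mem_centralizer_iff.mp a.2.2 _ hk
    · intro hau
      exact hout u hu ((K.mul_mem_cancel_left a.2.1).mp hau)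
  -- `K` has index `p`
  obtain ⟨g, hg⟩ : ∃ g : G, g ∉ K := by
    by_contra h
    push Not at h
    exact cx_ne_top hx ((Subgroup.eq_top_iff' _).mpr h)
  have htop : K ⊔ zpowers g = ⊤ := (Subgroup.eq_top_iff' _).mpr fun h =>
    by_contra fun hh => key g h hg hh
  have hidx : K.index = p := by
    have hgp : g ^ p ∈ K := hKp p hxp g
    have h1 : orderOf (g : G ⧸ K) = p := by
      refine orderOf_eq_prime ?_ (fun h => hg ((QuotientGroup.eq_one_iff g).mp h))
      rw [← QuotientGroup.mk_pow, QuotientGroup.eq_one_iff]; exact hgp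
    have h2 : zpowers (g : G ⧸ K) = ⊤ := by
      have := congrArg (Subgroup.map (QuotientGroup.mk' K)) htop
      rw [Subgroup.map_sup, (Subgroup.map_eq_bot_iff _).mpr (QuotientGroup.ker_mk' K).ge, bot_sup_eq,
        MonoidHom.map_zpowers, Subgroup.map_top_of_surjective _ (QuotientGroup.mk'_surjective K)]
        at this
      exact this
    rw [← h1, Subgroup.index, ← Nat.card_zpowers, h2, Subgroup.card_top]
  have hnp : n = p := (hn x hx).symm.trans hidx
  -- `g` moves `g₀` by a central element of order `p`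
  have hgZ : g ∉ center G := fun h => hg (center_le_cx x h)
  haveI hgn : (Cx g).Normal := by
    refine normal_of_index_eq_minFac_card ?_
    obtain ⟨m, hm⟩ := IsPGroup.iff_card.mp hG
    have hm0 : m ≠ 0 := by
      rintro rfl
      simp only [pow_zero] at hm
      haveI := (Nat.card_eq_one_iff_unique.mp hm).1
      exact hg (Subsingleton.elim g 1 ▸ K.one_mem)
    rw [hm, Nat.pow_minFac hm0, hp.out.minFac_eq, hn g hgZ, hnp]
  set c : G := g * g₀ * g⁻¹ * g₀⁻¹ with hc
  have hcA : c ∈ A := A.mul_mem (hAnorm.conj_mem _ hg₀A g) (A.inv_mem hg₀A)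
  have hcg : c ∈ Cx g := by
    have h1 : g₀ * g⁻¹ * g₀⁻¹ ∈ Cx g :=
      hgn.conj_mem _ ((Cx g).inv_mem (self_mem g)) g₀
    have h2 := (Cx g).mul_mem (self_mem g) h1
    rw [show g * (g₀ * g⁻¹ * g₀⁻¹) = c from by rw [hc]; group] at h2
    exact h2
  have hcZ : c ∈ center G := by
    by_contra hcZ
    have h1 : K = Cx c := by
      refine hF x c hx hcZ fun k hk => ?_
      exact mem_centralizer_singleton_iff.mpr (mem_centralizer_iff.mp hcA.2 k hk)
    exact hg (h1.symm ▸ mem_centralizer_singleton_iff.mpr (mem_centralizer_singleton_iff.mp hcg).symm)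
  have hconj : ∀ j : ℕ, g ^ j * g₀ * (g ^ j)⁻¹ = c ^ j * g₀ := by
    intro j
    induction j with
    | zero => simp
    | succ j ih =>
      calc g ^ (j + 1) * g₀ * (g ^ (j + 1))⁻¹ = g * (g ^ j * g₀ * (g ^ j)⁻¹) * g⁻¹ := by
            rw [pow_succ']; group
        _ = g * c ^ j * g₀ * g⁻¹ := by rw [ih]; group
        _ = c ^ j * g * g₀ * g⁻¹ := by rw [mem_center_iff.mp ((center G).pow_mem hcZ j) g]
        _ = c ^ j * (c * g₀) := by rw [hc]; group
        _ = c ^ (j + 1) * g₀ := by rw [pow_succ]; group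
  have hcp : c ^ p = 1 := by
    have h1 := hconj p
    rw [← mem_center_iff.mp (hA g hg) g₀, mul_inv_cancel_right] at h1
    exact mul_eq_right.mp h1.symm
  have h3 : g * g₀ ^ p * g⁻¹ = g₀ ^ p := by
    rw [← conj_pow, show g * g₀ * g⁻¹ = c * g₀ from by rw [hc]; group,
      (show Commute c g₀ from (mem_center_iff.mp hcZ g₀).symm).mul_pow, hcp, one_mul]
  have h4 : g ∈ Cx (g₀ ^ p) := mem_centralizer_singleton_iff.mpr (mul_inv_eq_iff_eq_mul.mp h3)
  rw [← flat_pow hF hg₀, hgK] at h4
  exact hg h4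

/-- a subgroup containing all elements of prime power order is everything -/
theorem top_of_primePow [Finite G] {H : Subgroup G}
    (h : ∀ q : ℕ, q.Prime → ∀ g : G, (∃ k : ℕ, g ^ q ^ k = 1) → g ∈ H) : H = ⊤ := by
  rw [← index_eq_one]
  by_contra hne
  obtain ⟨q, hq, hd⟩ := Nat.exists_prime_and_dvd hne
  haveI := Fact.mk hq
  obtain ⟨Q⟩ := (inferInstance : Nonempty (Sylow q G))
  exact Q.not_dvd_index' (fun h0 => index_ne_zero_of_finite h0) (hd.trans (index_dvd_of_le fun g hg => by
    obtain ⟨k, hk⟩ := Q.isPGroup' ⟨g, hg⟩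
    exact h q hq g ⟨k, by simpa [Subtype.ext_iff] using hk⟩))

/-- a non-central element has a non-central prime power part -/
theorem exists_part [Finite G] {g : G} (hg : g ∉ center G) :
    ∃ q : ℕ, q.Prime ∧ ∃ u : G, u ∉ center G ∧ (∃ k : ℕ, u ^ q ^ k = 1) ∧ (Cx g) ≤ Cx u := by
  by_contra hcon
  push Not at hcon
  have h1 : (center G).subgroupOf (zpowers g) = ⊤ := by
    refine top_of_primePow fun q hq w hw => ?_
    obtain ⟨k, hk⟩ := hw
    by_contra hwZ
    refine hcon q hq (w : G) hwZ ⟨k, by simpa [Subtype.ext_iff] using hk⟩ fun c hc => ?_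
    obtain ⟨j, hj⟩ := mem_zpowers_iff.mp w.2
    rw [mem_centralizer_singleton_iff] at hc ⊢
    rw [← hj]
    exact Commute.zpow_right hc j
  exact hg (subgroupOf_eq_top.mp h1 (mem_zpowers g))

/-- coprime commuting elements can be recovered from their product -/
theorem cx_mul_le {u v : G} (huv : Commute u v) {p q : ℕ} (hp : p.Prime) (hq : q.Prime) (hne : p ≠ q)
    (hu : ∃ k : ℕ, u ^ p ^ k = 1) (hv : ∃ k : ℕ, v ^ q ^ k = 1) :
    (Cx (u * v)) ≤ Cx u := by
  obtain ⟨i, hi⟩ := hu
  obtain ⟨j, hj⟩ := hv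
  have hco : Nat.Coprime (orderOf u) (q ^ j) := Nat.Coprime.coprime_dvd_left
    (orderOf_dvd_of_pow_eq_one hi) (((Nat.coprime_primes hp hq).mpr hne).pow i j)
  obtain ⟨m, hm⟩ := exists_pow_eq_self_of_coprime hco.symm
  have h1 : (Cx (u * v)) ≤ Cx (u ^ q ^ j) := by
    have := le_pow (u * v) (q ^ j)
    rwa [huv.mul_pow, hj, mul_one] at this
  refine h1.trans ?_
  have := le_pow (u ^ q ^ j) m
  rwa [hm] at this

/-- Itô: the noncentral elements of prime power order all belong to one prime. -/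
theorem prime_unique [Finite G] {n : ℕ} (hn : ∀ x : G, x ∉ center G → (Cx x).index = n)
    {p q : ℕ} (hp : p.Prime) (hq : q.Prime) (hne : p ≠ q)
    (hx : ∃ x : G, x ∉ center G ∧ ∃ k : ℕ, x ^ p ^ k = 1)
    (hy : ∃ y : G, y ∉ center G ∧ ∃ k : ℕ, y ^ q ^ k = 1) : False := by
  classical
  haveI := Fintype.ofFinite G
  have hcard : ∀ x y : G, x ∉ center G → y ∉ center G → Nat.card (Cx x) = Nat.card (Cx y) := by
    intro x y hx hy
    have h1 := card_mul_index (Cx x)
    have h2 := card_mul_index (Cx y)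
    rw [hn x hx] at h1
    rw [hn y hy, ← h1] at h2
    exact (Nat.eq_of_mul_eq_mul_right (hn x hx ▸ Nat.pos_of_ne_zero index_ne_zero_of_finite) h2).symm
  have hF : Flat G := fun a b ha hb hab => eq_of_le_of_card_ge hab (hcard b a hb ha).le
  -- every centralizer contains non-central `r`-elements for every occurring prime `r`
  have mixed : ∀ (r : ℕ), r.Prime → (∃ y : G, y ∉ center G ∧ ∃ k : ℕ, y ^ r ^ k = 1) →
      ∀ x : G, x ∉ center G → ∃ w ∈ (Cx x), w ∉ center G ∧ ∃ k : ℕ, w ^ r ^ k = 1 := by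
    intro r hr hy x hx
    by_contra hcon
    push Not at hcon
    obtain ⟨y, hyZ, k, hk⟩ := hy
    haveI := Fact.mk hr
    obtain ⟨R'⟩ := (inferInstance : Nonempty (Sylow r (Cx x)))
    have hpy : IsPGroup r (zpowers (⟨y, self_mem y⟩ : Cx y)) :=
      IsPGroup.iff_card.mpr (by
        obtain ⟨i, -, hi⟩ := (Nat.dvd_prime_pow hr).mp
          (orderOf_dvd_of_pow_eq_one (show (⟨y, self_mem y⟩ : Cx y) ^ r ^ k = 1 from Subtype.ext (by simpa using hk)))
        exact ⟨i, by rw [Nat.card_zpowers, hi]⟩)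
    obtain ⟨R, hR⟩ := hpy.exists_le_sylow
    set C₀ : Subgroup G := (R' : Subgroup (Cx x)).map (Subgroup.subtype _) with hC₀
    have hC₀Z : C₀ ≤ center G := by
      rintro _ ⟨w, hw, rfl⟩
      obtain ⟨i, hi⟩ := R'.isPGroup' ⟨w, hw⟩
      by_contra hwZ
      exact hcon w w.2 hwZ i (by simpa [Subtype.ext_iff] using hi)
    have hC₀le : C₀ ≤ (R : Subgroup (Cx y)).map (Subgroup.subtype _) := by
      intro w hw
      have hwy : w ∈ Cx y := center_le_cx y (hC₀Z hw)
      haveI : (C₀.subgroupOf (Cx y)).Normal := ⟨fun a ha g => by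
        rw [mem_subgroupOf] at ha ⊢
        have : ((g * a * g⁻¹ : Cx y) : G) = a := by
          simp only [Subgroup.coe_mul, Subgroup.coe_inv]
          rw [mem_center_iff.mp (hC₀Z ha) g, mul_inv_cancel_right]
        rwa [this]⟩
      have hpg : IsPGroup r (C₀.subgroupOf (Cx y)) :=
        ((R'.isPGroup'.map _).comap_subtype)
      obtain ⟨R₁, hR₁⟩ := hpg.exists_le_sylow
      obtain ⟨g, hg⟩ := MulAction.exists_smul_eq (Cx y) R₁ R
      refine ⟨⟨w, hwy⟩, ?_, rfl⟩
      rw [← hg]
      have hwc : g⁻¹ * ⟨w, hwy⟩ * g = (⟨w, hwy⟩ : Cx y) := Subtype.ext (by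
        simp only [Subgroup.coe_mul, Subgroup.coe_inv]
        rw [mul_assoc, ← mem_center_iff.mp (hC₀Z hw) g, inv_mul_cancel_left])
      show (⟨w, hwy⟩ : Cx y) ∈ ((MulAut.conj g) • (R₁ : Subgroup (Cx y)))
      rw [Subgroup.mem_pointwise_smul_iff_inv_smul_mem, MulAut.smul_def, MulAut.conj_inv_apply, hwc]
      exact hR₁ hw
    have heq := eq_of_le_of_card_ge hC₀le (by
      rw [card_map_of_injective (subtype_injective _), hC₀, card_map_of_injective (subtype_injective _),
        R.card_eq_multiplicity, R'.card_eq_multiplicity, hcard x y hx hyZ])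
    exact hyZ (hC₀Z (heq ▸ ⟨⟨y, self_mem y⟩, hR (mem_zpowers _), rfl⟩))
  -- all centralizers are abelian
  have hab : ∀ x : G, x ∉ center G → IsMulCommutative (Cx x) := by
    intro x hx'
    obtain ⟨r₀, hr₀, u, huZ, hu, hxu⟩ := exists_part hx'
    rw [hF x u hx' huZ hxu]
    obtain ⟨r₁, hr₁, hne₁, hy₁⟩ : ∃ r₁ : ℕ, r₁.Prime ∧ r₁ ≠ r₀ ∧
        ∃ y : G, y ∉ center G ∧ ∃ k : ℕ, y ^ r₁ ^ k = 1 := by
      by_cases h : p = r₀
      · exact ⟨q, hq, fun h' => hne (h.trans h'.symm), hy⟩
      · exact ⟨p, hp, h, hx⟩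
    obtain ⟨w, hwu, hwZ, hw⟩ := mixed r₁ hr₁ hy₁ u huZ
    -- an `s`-element of `C(v)`, `v` noncentral of another prime, is central in `C(v)`
    have hcen : ∀ {s t : ℕ}, s.Prime → t.Prime → s ≠ t → ∀ v c : G, v ∉ center G →
        (∃ k : ℕ, v ^ t ^ k = 1) → c ∈ (Cx v) → (∃ k : ℕ, c ^ s ^ k = 1) →
        (Cx v) ≤ Cx c := by
      intro s t hs ht hst v c hvZ hv hc hc'
      have hvc : Commute v c := (mem_centralizer_singleton_iff.mp hc).symm
      have h1 : (Cx (v * c)) ≤ Cx v := cx_mul_le hvc ht hs (Ne.symm hst) hv hc'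
      by_cases hvcZ : v * c ∈ center G
      · exact absurd (h1 (center_le_cx _ (one_mem _))) (fun _ => hvZ (by
          have : (Cx v) = ⊤ := top_le_iff.mp (le_trans (le_of_eq (by
            rw [eq_comm, eq_top_iff']
            exact fun g => mem_centralizer_singleton_iff.mpr (mem_center_iff.mp hvcZ g))) h1)
          exact (by_contra fun h => cx_ne_top h this)))
      rw [← hF _ v hvcZ hvZ h1, hvc.eq]
      exact cx_mul_le hvc.symm hs ht hst hc' hv
    have huw : (Cx u) = Cx w := hF u w huZ hwZ (hcen hr₁ hr₀ hne₁ u w huZ hu hwu hw)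
    have htop : (center (Cx u)) = ⊤ := top_of_primePow fun s hs c hc => by
      obtain ⟨k, hk⟩ := hc
      rw [mem_center_iff]
      intro d
      apply Subtype.ext
      simp only [Subgroup.coe_mul]
      refine mem_centralizer_singleton_iff.mp ?_
      by_cases hsr : s = r₀
      · subst hsr
        exact hcen hs hr₁ (Ne.symm hne₁) w c hwZ hw (huw ▸ c.2) ⟨k, by simpa [Subtype.ext_iff] using hk⟩
          (huw ▸ d.2)
      · exact hcen hs hr₀ hsr u c huZ hu c.2 ⟨k, by simpa [Subtype.ext_iff] using hk⟩ d.2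
    exact ⟨⟨fun a b => (mem_center_iff.mp (htop ▸ mem_top a : a ∈ center (Cx u)) b).symm⟩⟩
  have hCA : ∀ x y : G, x ∉ center G → y ∉ center G → y ∈ (Cx x) → (Cx x) = Cx y := by
    intro x y hx' hy' hxy
    haveI := hab x hx'
    exact hF x y hx' hy' fun c hc => mem_centralizer_singleton_iff.mpr (setLike_mul_comm hc hxy)
  -- for each occurring prime `r`, the `r`-part of the index is `r`
  have hnr : ∀ r : ℕ, r.Prime → (∃ y : G, y ∉ center G ∧ ∃ k : ℕ, y ^ r ^ k = 1) →
      n.factorization r = 1 ∧ ∃ x : G, x ∉ center G ∧ ∃ g : G, g ∈ normalizer ((Cx x) : Set G) ∧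
        g ∉ (Cx x) ∧ g ^ r ∈ center G ∧ ∃ k : ℕ, g ^ r ^ k = 1 := by
    intro r hr hyr
    haveI := Fact.mk hr
    obtain ⟨y, hyZ, k, hk⟩ := hyr
    have hpy : IsPGroup r (zpowers y) := IsPGroup.iff_card.mpr (by
      obtain ⟨i, -, hi⟩ := (Nat.dvd_prime_pow hr).mp (orderOf_dvd_of_pow_eq_one hk)
      exact ⟨i, by rw [Nat.card_zpowers, hi]⟩)
    obtain ⟨P, hP⟩ := hpy.exists_le_sylow
    set Pb : Subgroup (G ⧸ center G) := (P : Subgroup G).map (QuotientGroup.mk' (center G)) with hPb
    have hPbp : IsPGroup r Pb := P.isPGroup'.map _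
    haveI : Nontrivial Pb := (Subgroup.nontrivial_iff_ne_bot _).mpr fun h => hyZ (by
      have h1 := (Subgroup.map_eq_bot_iff _).mp h (hP (mem_zpowers y))
      rwa [QuotientGroup.ker_mk'] at h1)
    haveI := hPbp.center_nontrivial
    have hd : r ∣ Nat.card (center Pb) := by
      obtain ⟨i, hi0, hi⟩ := (hPbp.to_subgroup (center Pb)).nontrivial_iff_card.mp hPbp.center_nontrivial
      rw [hi]; exact dvd_pow_self r (by omega)
    obtain ⟨zb, hzb⟩ := exists_prime_orderOf_dvd_card' r hd
    obtain ⟨z, hzP, hzz⟩ := Subgroup.mem_map.mp (zb : Pb).2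
    have hzZ : z ∉ center G := by
      intro h
      have h1 : ((zb : Pb) : G ⧸ center G) = 1 := by
        rw [← hzz, QuotientGroup.mk'_apply, QuotientGroup.eq_one_iff]; exact h
      rw [show zb = 1 from Subtype.ext (Subtype.ext h1), orderOf_one] at hzb
      exact hr.one_lt.ne hzb
    have hzr : z ^ r ∈ center G := by
      rw [← QuotientGroup.eq_one_iff, QuotientGroup.mk_pow, ← QuotientGroup.mk'_apply, hzz]
      have h1 : zb ^ r = 1 := hzb ▸ pow_orderOf_eq_one zb
      have h2 := congrArg (fun x : center Pb => ((x : Pb) : G ⧸ center G)) h1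
      simpa using h2
    have hcm : ∀ u ∈ (P : Subgroup G), u * z * u⁻¹ * z⁻¹ ∈ center G := by
      intro u hu
      rw [← QuotientGroup.eq_one_iff]
      have := congrArg Subtype.val (mem_center_iff.mp zb.2 ⟨_, Subgroup.mem_map_of_mem _ hu⟩)
      simp only [Subgroup.coe_mul, ← hzz, QuotientGroup.mk'_apply] at this
      simp only [QuotientGroup.mk_mul, QuotientGroup.mk_inv]
      rw [this]; group
    set A : Subgroup G := Cx z with hA
    haveI hAc : IsMulCommutative A := hab z hzZ
    have hnorm : ∀ u ∈ (P : Subgroup G), u ∈ normalizer (A : Set G) := by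
      intro u hu
      have h1 : u * z * u⁻¹ = z * (u * z * u⁻¹ * z⁻¹) := by
        rw [mem_center_iff.mp (hcm u hu) z]; group
      have h2 : (Cx (u * z * u⁻¹)) = A := by rw [h1, cx_mul_central (hcm u hu)]
      rw [mem_normalizer_iff]
      intro a
      rw [show (u * a * u⁻¹ ∈ A) = (u * a * u⁻¹ ∈ Cx (u * z * u⁻¹)) by rw [h2], hA]
      simp only [mem_centralizer_singleton_iff]
      constructor
      · intro h
        calc u * a * u⁻¹ * (u * z * u⁻¹) = u * (a * z) * u⁻¹ := by group
          _ = u * (z * a) * u⁻¹ := by rw [h]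
          _ = _ := by group
      · intro h
        have h3 : u * (a * z) * u⁻¹ = u * (z * a) * u⁻¹ := by
          calc u * (a * z) * u⁻¹ = u * a * u⁻¹ * (u * z * u⁻¹) := by group
            _ = _ := h
            _ = _ := by group
        exact mul_left_cancel (mul_right_cancel h3)
    -- work inside `P`
    have htw : ∀ u : (P : Subgroup G), u * ⟨z, hzP⟩ * u⁻¹ * (⟨z, hzP⟩ : (P : Subgroup G))⁻¹ ∈
        center (P : Subgroup G) := fun u => mem_center_iff.mpr fun v => Subtype.ext (by
      simpa using mem_center_iff.mp (hcm u u.2) v)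
    have hDA : ∀ u : (P : Subgroup G), u ∈ (Cx (⟨z, hzP⟩ : (P : Subgroup G))) ↔ (u : G) ∈ A := by
      intro u
      simp [hA, mem_centralizer_singleton_iff, Subtype.ext_iff]
    set D : Subgroup (P : Subgroup G) := Cx (⟨z, hzP⟩ : (P : Subgroup G)) with hD
    obtain ⟨hDn, hDc, hDp⟩ := twist htw
    have hzrP : (⟨z, hzP⟩ : (P : Subgroup G)) ^ r ∈ center (P : Subgroup G) :=
      mem_center_iff.mpr fun v => Subtype.ext (by simpa using mem_center_iff.mp hzr v)
    have hout : ∀ u : G, u ∈ normalizer (A : Set G) → u ^ r ∈ A → u ∉ A → ∀ a ∈ A,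
        (a * u) ^ r ∈ center G := by
      intro u hu hur huA a ha
      have h1 : (a * u) ^ r ∈ A := by
        rw [mul_pow_eq_norm A ⟨u, hu⟩ ⟨a, ha⟩]
        exact A.mul_mem (SetLike.coe_mem _) hur
      have h2 : a * u ∉ A := fun h => huA ((A.mul_mem_cancel_left ha).mp h)
      by_contra h3
      refine h2 ?_
      rw [hA, hCA z _ hzZ h3 h1, ← flat_pow hF h3]
      exact self_mem _
    -- some element of `P` lies outside `A`
    obtain ⟨g, hgP, hgA⟩ : ∃ g ∈ (P : Subgroup G), g ∉ A := by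
      by_contra hcon
      push Not at hcon
      have hR : A ≠ ⊤ := cx_ne_top hzZ
      obtain ⟨v, hv⟩ := Recog.exists_forall_conj_notMem hR
      have hvZ : v ∉ center G := fun h => hv 1 (by simpa using center_le_cx z h)
      obtain ⟨Q⟩ := (inferInstance : Nonempty (Sylow r (Cx v)))
      obtain ⟨P', hP'⟩ := (Q.isPGroup'.map (Cx v).subtype).exists_le_sylow
      have heq : (Q : Subgroup (Cx v)).map (Cx v).subtype = P' := by
        refine eq_of_le_of_card_ge hP' ?_
        rw [card_map_of_injective (subtype_injective _), Q.card_eq_multiplicity, hcard v z hvZ hzZ,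
          ← (P.subtype hcon).card_eq_multiplicity, Sylow.coe_subtype, P'.card_eq_multiplicity,
          ← P.card_eq_multiplicity]
        exact le_of_eq (Nat.card_congr (subgroupOfEquivOfLe hcon).toEquiv).symm
      obtain ⟨s, hs⟩ := MulAction.exists_smul_eq G P P'
      have hw : s * z * s⁻¹ ∈ Cx v := by
        have h1 : s * z * s⁻¹ ∈ (P' : Subgroup G) := by
          rw [← hs]
          exact ⟨z, hzP, rfl⟩
        rw [← heq] at h1
        obtain ⟨w, -, hw⟩ := h1
        exact hw ▸ w.2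
      apply hv s⁻¹
      rw [hA, mem_centralizer_singleton_iff]
      have h2 := mem_centralizer_singleton_iff.mp hw
      calc s⁻¹ * v * s⁻¹⁻¹ * z = s⁻¹ * (v * (s * z * s⁻¹)) * s := by group
        _ = s⁻¹ * ((s * z * s⁻¹) * v) * s := by rw [h2]
        _ = _ := by group
    have hgD : (⟨g, hgP⟩ : (P : Subgroup G)) ∉ D := fun h => hgA ((hDA _).mp h)
    have hgr : g ^ r ∈ A := by simpa using (hDA _).mp (hDp r hzrP ⟨g, hgP⟩)
    have hgrZ : g ^ r ∈ center G := by simpa using hout g (hnorm g hgP) hgr hgA 1 (one_mem A)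
    refine ⟨?_, z, hzZ, g, hnorm g hgP, hgA, hgrZ, ?_⟩
    swap
    · obtain ⟨i, hi⟩ := P.isPGroup' ⟨g, hgP⟩
      exact ⟨i, by simpa [Subtype.ext_iff] using hi⟩
    have htop : D ⊔ zpowers (⟨g, hgP⟩ : (P : Subgroup G)) = ⊤ := by
      rw [eq_top_iff']
      intro h
      by_contra hh
      obtain ⟨r', hr', hr'ne, hyr'⟩ : ∃ r' : ℕ, r'.Prime ∧ r' ≠ r ∧
          ∃ y : G, y ∉ center G ∧ ∃ k : ℕ, y ^ r' ^ k = 1 := by
        by_cases h' : p = r
        · exact ⟨q, hq, fun h'' => hne (h'.trans h''.symm), hy⟩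
        · exact ⟨p, hp, h', hx⟩
      obtain ⟨a, haA, haZ, i, hi⟩ := mixed r' hr' hyr' z hzZ
      have h1 : a ^ r ∈ center G := by
        refine norm_key A (center G) hr ⟨g, hnorm g hgP⟩ ⟨h, hnorm h h.2⟩ hgr ?_ ?_ ⟨a, haA⟩
        · intro b
          exact setLike_mul_comm (s := A)
            (by simpa using (hDA _).mp (hDc ⟨g, hgP⟩ h)) b.2
        · intro u hu b
          have hu' : ∃ w : (P : Subgroup G), (w : G) = u ∧ w ∉ D := by
            rcases hu with rfl | ⟨t, rfl⟩
            · exact ⟨⟨g, hgP⟩, rfl, hgD⟩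
            · refine ⟨h * ⟨g, hgP⟩ ^ t, by simp, fun hd => hh ?_⟩
              have h1 : (⟨g, hgP⟩ : (P : Subgroup G)) ^ t ∈ D ⊔ zpowers ⟨g, hgP⟩ :=
                mem_sup_right (npow_mem_zpowers _ t)
              exact ((D ⊔ zpowers _).mul_mem_cancel_right h1).mp (mem_sup_left hd)
          obtain ⟨w, hw, hwD⟩ := hu'
          refine hout u u.2 ?_ (fun h' => hwD ((hDA w).mpr (hw ▸ h'))) b b.2
          rw [← hw]
          simpa using (hDA _).mp (hDp r hzrP w)
      refine haZ ?_
      have hco : Nat.Coprime r (orderOf a) := Nat.Coprime.coprime_dvd_right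
        (orderOf_dvd_of_pow_eq_one hi) (((Nat.coprime_primes hr hr').mpr (Ne.symm hr'ne)).pow_right i)
      obtain ⟨m, hm⟩ := exists_pow_eq_self_of_coprime hco
      exact hm ▸ (center G).pow_mem h1 m
    haveI := hDn
    have hidx : D.index = r := by
      have hgp : (⟨g, hgP⟩ : (P : Subgroup G)) ^ r ∈ D := hDp r hzrP _
      have h1 : orderOf ((⟨g, hgP⟩ : (P : Subgroup G)) : (P : Subgroup G) ⧸ D) = r := by
        refine orderOf_eq_prime ?_ (fun h => hgD ((QuotientGroup.eq_one_iff _).mp h))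
        rw [← QuotientGroup.mk_pow, QuotientGroup.eq_one_iff]; exact hgp
      have h2 : zpowers ((⟨g, hgP⟩ : (P : Subgroup G)) : (P : Subgroup G) ⧸ D) = ⊤ := by
        have := congrArg (Subgroup.map (QuotientGroup.mk' D)) htop
        rw [Subgroup.map_sup, (Subgroup.map_eq_bot_iff _).mpr (QuotientGroup.ker_mk' D).ge, bot_sup_eq,
          MonoidHom.map_zpowers, Subgroup.map_top_of_surjective _ (QuotientGroup.mk'_surjective D)]
          at this
        exact this
      refine Eq.trans ?_ h1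
      rw [Subgroup.index, ← Nat.card_zpowers, h2, Subgroup.card_top]
    -- `D` is the Sylow subgroup of `A`
    obtain ⟨S⟩ := (inferInstance : Nonempty (Sylow r A))
    have hSP : (S : Subgroup A).map A.subtype ≤ (P : Subgroup G) := by
      haveI : (S : Subgroup A).Normal := inferInstance
      haveI : (S : Subgroup A).Characteristic := Sylow.characteristic_of_normal S inferInstance
      have hle : (P : Subgroup G) ≤ normalizer (((S : Subgroup A).map A.subtype : Subgroup G) : Set G) :=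
        fun u hu => by
          have hfix : (S : Subgroup A).map (conjOn A ⟨u, hnorm u hu⟩).toMonoidHom = (S : Subgroup A) :=
            characteristic_iff_map_eq.mp inferInstance _
          rw [mem_normalizer_iff]
          intro w
          constructor
          · rintro ⟨a, ha, rfl⟩
            exact ⟨conjOn A ⟨u, hnorm u hu⟩ a, hfix.le ⟨a, ha, rfl⟩, rfl⟩
          · rintro ⟨a, ha, hwa⟩
            obtain ⟨b, hb, hba⟩ := hfix.ge ha
            refine ⟨b, hb, ?_⟩
            have h1 : u * (b : G) * u⁻¹ = u * w * u⁻¹ := by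
              rw [← hwa, ← hba]; rfl
            exact mul_left_cancel (mul_right_cancel h1)
      have h1 := IsPGroup.to_sup_of_normal_right' P.isPGroup' (S.isPGroup'.map A.subtype) hle
      have h2 := P.is_maximal' h1 le_sup_left
      exact h2 ▸ le_sup_right
    have hDcard : Nat.card D = r ^ (Nat.card A).factorization r := by
      rw [← S.card_eq_multiplicity]
      refine le_antisymm ?_ ?_
      · have h1 : IsPGroup r ((D.map (P : Subgroup G).subtype).subgroupOf A) :=
          ((P.isPGroup'.to_subgroup D).map _).comap_subtype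
        obtain ⟨S', hS'⟩ := h1.exists_le_sylow
        have hle : D.map (P : Subgroup G).subtype ≤ A := by
          rintro _ ⟨w, hw, rfl⟩; exact (hDA w).mp hw
        rw [Nat.card_congr (D.equivMapOfInjective _ (P : Subgroup G).subtype_injective).toEquiv,
          ← Nat.card_congr (subgroupOfEquivOfLe hle).toEquiv, S.card_eq_multiplicity,
          ← S'.card_eq_multiplicity]
        exact Subgroup.card_le_of_le hS'
      · rw [Nat.card_congr ((S : Subgroup A).equivMapOfInjective _ A.subtype_injective).toEquiv,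
          Nat.card_congr (D.equivMapOfInjective _ (P : Subgroup G).subtype_injective).toEquiv]
        refine Subgroup.card_le_of_le fun w hw => ⟨⟨w, hSP hw⟩, (hDA _).mpr ?_, rfl⟩
        obtain ⟨a, -, rfl⟩ := hw
        exact a.2
    have h1 : r ^ (Nat.card G).factorization r = r ^ ((Nat.card A).factorization r + 1) := by
      rw [← P.card_eq_multiplicity, pow_succ, ← hDcard]
      exact (card_mul_index D).symm.trans (by rw [hidx])
    have h2 := Nat.pow_right_injective hr.two_le h1
    rw [← card_mul_index A, hn z hzZ, Nat.factorization_mul Nat.card_pos.ne'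
      (hn z hzZ ▸ index_ne_zero_of_finite), Finsupp.add_apply] at h2
    omega
  -- numerology
  obtain ⟨x₀, hx₀, hx₀k⟩ := hx
  set A₀ : Subgroup G := Cx x₀ with hA₀
  obtain ⟨c, hc⟩ : Nat.card (center G) ∣ Nat.card A₀ := card_dvd_of_le (center_le_cx x₀)
  set m := Nat.card (center G) with hm
  have hm0 : 0 < m := Nat.card_pos
  have hc0 : 0 < c := Nat.pos_of_ne_zero fun h => Nat.card_pos.ne' (hc.trans (by rw [h, mul_zero]))
  have hn0 : n ≠ 0 := hn x₀ hx₀ ▸ index_ne_zero_of_finite
  have hG : Nat.card G = n * (m * c) := by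
    rw [← hc, ← hn x₀ hx₀, mul_comm]; exact (card_mul_index _).symm
  have hocc : ∀ r : ℕ, r.Prime → r ∣ n → ∃ y : G, y ∉ center G ∧ ∃ k : ℕ, y ^ r ^ k = 1 := by
    intro r hr hd
    by_contra hcon
    push Not at hcon
    haveI := Fact.mk hr
    obtain ⟨R⟩ := (inferInstance : Nonempty (Sylow r G))
    have hle : (R : Subgroup G) ≤ A₀ := fun w hw => center_le_cx x₀ (by
      obtain ⟨k, hk⟩ := R.isPGroup' ⟨w, hw⟩
      by_contra hwZ
      exact hcon w hwZ k (by simpa [Subtype.ext_iff] using hk))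
    exact R.not_dvd_index' (fun h0 => index_ne_zero_of_finite h0)
      ((hn x₀ hx₀ ▸ hd : r ∣ A₀.index).trans (index_dvd_of_le hle))
  have hcr : ∀ r : ℕ, r.Prime → (∃ y : G, y ∉ center G ∧ ∃ k : ℕ, y ^ r ^ k = 1) → r ∣ c := by
    intro r hr hyr
    haveI := Fact.mk hr
    obtain ⟨w, hw, hwZ, k, hk⟩ := mixed r hr hyr x₀ hx₀
    haveI := hab x₀ hx₀
    obtain ⟨i, hi⟩ : r ∣ Nat.card (A₀ ⧸ (center G).subgroupOf A₀) := by
      have h1 : orderOf ((⟨w, hw⟩ : A₀) : A₀ ⧸ (center G).subgroupOf A₀) ≠ 1 := by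
        rw [ne_eq, orderOf_eq_one_iff, QuotientGroup.eq_one_iff, mem_subgroupOf]; exact hwZ
      have h2 : orderOf ((⟨w, hw⟩ : A₀) : A₀ ⧸ (center G).subgroupOf A₀) ∣ r ^ k :=
        orderOf_dvd_of_pow_eq_one (by
          rw [← QuotientGroup.mk_pow, show (⟨w, hw⟩ : A₀) ^ r ^ k = 1 from Subtype.ext (by simpa using hk)]
          rfl)
      obtain ⟨i, -, hi⟩ := (Nat.dvd_prime_pow hr).mp h2
      refine dvd_trans ?_ (orderOf_dvd_natCard ((⟨w, hw⟩ : A₀) : A₀ ⧸ (center G).subgroupOf A₀))
      rw [hi] at h1 ⊢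
      exact dvd_pow_self r (fun h => h1 (by rw [h, pow_zero]))
    have h3 := card_eq_card_quotient_mul_card_subgroup ((center G).subgroupOf A₀)
    rw [Nat.card_congr (subgroupOfEquivOfLe (center_le_cx x₀)).toEquiv, hc, ← hm, mul_comm m c] at h3
    exact (Nat.eq_of_mul_eq_mul_right hm0 h3).symm ▸ ⟨i, hi⟩
  have hndc : n ∣ c := by
    rw [← Nat.factorization_le_iff_dvd hn0 hc0.ne']
    intro r
    by_cases hr : r.Prime
    · by_cases hd : r ∣ n
      · rw [(hnr r hr (hocc r hr hd)).1]
        exact hr.factorization_pos_of_dvd hc0.ne' (hcr r hr (hocc r hr hd))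
      · simp [Nat.factorization_eq_zero_of_not_dvd hd]
    · simp [Nat.factorization_eq_zero_of_not_prime _ hr]
  -- the partition of `G \ Z`
  have hn1 : 1 < n := by
    have h1 := hn x₀ hx₀ ▸ (Cx x₀).one_lt_index_of_ne_top (cx_ne_top hx₀)
    exact h1
  have hdvd : m * c - m ∣ n * (m * c) - m := by
    let T : Finset G := Finset.univ.filter fun g => g ∉ center G
    have hT : T.card = n * (m * c) - m := by
      have h1 := Finset.card_filter_add_card_filter_not (s := (Finset.univ : Finset G)) (fun g => g ∈ center G)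
      rw [Finset.card_univ, ← Nat.card_eq_fintype_card, hG] at h1
      have h2 : (Finset.univ.filter fun g : G => g ∈ center G).card = m := by
        rw [hm, Nat.card_eq_fintype_card, Fintype.card_subtype]
      rw [show T.card = (Finset.univ.filter fun g : G => ¬ g ∈ center G).card from rfl]
      omega
    rw [← hT, Finset.card_eq_sum_card_image (fun g => Cx g) T]
    refine Finset.dvd_sum fun B hB => ?_
    obtain ⟨g, hg, rfl⟩ := Finset.mem_image.mp hB
    have hgZ : g ∉ center G := (Finset.mem_filter.mp hg).2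
    have h1 : (T.filter fun y => (Cx y) = Cx g)
        = (Finset.univ.filter fun y => y ∈ Cx g) \ (Finset.univ.filter fun y => y ∈ center G) := by
      ext y
      simp only [T, Finset.mem_filter, Finset.mem_univ, true_and, Finset.mem_sdiff]
      constructor
      · exact fun ⟨h1, h2⟩ => ⟨h2 ▸ self_mem y, h1⟩
      · exact fun ⟨h1, h2⟩ => ⟨h2, (hCA g y hgZ h2 h1).symm⟩
    rw [h1, Finset.card_sdiff_of_subset (fun y hy => by
      simp only [Finset.mem_filter, Finset.mem_univ, true_and] at hy ⊢; exact center_le_cx g hy),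
      ← Fintype.card_subtype, ← Fintype.card_subtype, ← Nat.card_eq_fintype_card,
      ← Nat.card_eq_fintype_card, hcard g x₀ hgZ hx₀, ← hA₀, hc, ← hm]
  have hcn : c = n := by
    have h1 : m * c - m = m * (c - 1) := by rw [Nat.mul_sub_one]
    have h2 : n * (m * c) - m = m * (n * c - 1) := by
      rw [Nat.mul_sub_one]; congr 1; ring
    rw [h1, h2, Nat.mul_dvd_mul_iff_left hm0] at hdvd
    have h3 : n * c - 1 = n * (c - 1) + (n - 1) := by
      rw [Nat.mul_sub_one]
      have : n ≤ n * c := Nat.le_mul_of_pos_right n hc0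
      omega
    rw [h3, Nat.dvd_add_right (dvd_mul_left _ _)] at hdvd
    have h4 := Nat.le_of_dvd (by omega) hdvd
    have h5 := Nat.le_of_dvd hc0 hndc
    omega
  -- the fixed point congruence
  have final : ∀ r s : ℕ, r.Prime → s.Prime → r ≠ s →
      (∃ y : G, y ∉ center G ∧ ∃ k : ℕ, y ^ r ^ k = 1) →
      (∃ y : G, y ∉ center G ∧ ∃ k : ℕ, y ^ s ^ k = 1) → r ∣ s - 1 := by
    intro r s hr hs hrs hyr hys
    haveI := Fact.mk hr
    haveI := Fact.mk hs
    obtain ⟨-, z, hz, g, hgN, hgA, hgr, k, hgk⟩ := hnr r hr hyr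
    haveI := hab z hz
    set A : Subgroup G := Cx z
    let X := {a : G // a ∈ A ∧ ∃ i : ℕ, a ^ s ^ i = 1}
    have hgrp : IsPGroup r (zpowers g) := IsPGroup.iff_card.mpr (by
      obtain ⟨i, -, hi⟩ := (Nat.dvd_prime_pow hr).mp (orderOf_dvd_of_pow_eq_one hgk)
      exact ⟨i, by rw [Nat.card_zpowers, hi]⟩)
    have hNle : zpowers g ≤ normalizer (A : Set G) := zpowers_le.mpr hgN
    letI : MulAction (zpowers g) X :=
      { smul := fun w a => ⟨(w : G) * a.1 * (w : G)⁻¹, (mem_normalizer_iff.mp (hNle w.2) _).mp a.2.1,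
          a.2.2.imp fun i hi => by rw [conj_pow, hi]; group⟩
        one_smul := fun a => Subtype.ext (by show ((1 : zpowers g) : G) * a.1 * ((1 : zpowers g) : G)⁻¹ = a.1; simp)
        mul_smul := fun w w' a => Subtype.ext (by
          show ((w * w' : zpowers g) : G) * a.1 * ((w * w' : zpowers g) : G)⁻¹ = (w : G) * ((w' : G) * a.1 * (w' : G)⁻¹) * (w : G)⁻¹
          simp only [Subgroup.coe_mul]; group) }
    have hmod := hgrp.card_modEq_card_fixedPoints X
    -- the `s`-elements of an abelian group form its Sylow subgroup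
    have hcardX : ∀ (B : Subgroup G), IsMulCommutative B →
        Nat.card {a : G // a ∈ B ∧ ∃ i : ℕ, a ^ s ^ i = 1} = s ^ (Nat.card B).factorization s := by
      intro B hB
      obtain ⟨S⟩ := (inferInstance : Nonempty (Sylow s B))
      haveI : (S : Subgroup B).Normal := inferInstance
      haveI := Sylow.unique_of_normal S inferInstance
      rw [← S.card_eq_multiplicity]
      refine Nat.card_congr ⟨fun a => ⟨⟨a.1, a.2.1⟩, ?_⟩, fun a => ⟨a.1.1, a.1.2, ?_⟩, fun a => rfl, fun a => rfl⟩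
      · obtain ⟨i, hi⟩ := a.2.2
        have hpg : IsPGroup s (zpowers (⟨a.1, a.2.1⟩ : B)) := IsPGroup.iff_card.mpr (by
          obtain ⟨j, -, hj⟩ := (Nat.dvd_prime_pow hs).mp
            (orderOf_dvd_of_pow_eq_one (show (⟨a.1, a.2.1⟩ : B) ^ s ^ i = 1 from Subtype.ext (by simpa using hi)))
          exact ⟨j, by rw [Nat.card_zpowers, hj]⟩)
        obtain ⟨S', hS'⟩ := hpg.exists_le_sylow
        exact (Subsingleton.elim S' S) ▸ hS' (mem_zpowers _)
      · obtain ⟨i, hi⟩ := S.isPGroup' a
        exact ⟨i, by simpa [Subtype.ext_iff] using hi⟩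
    have hfix : Nat.card (MulAction.fixedPoints (zpowers g) X)
        = s ^ (Nat.card (center G)).factorization s := by
      rw [← hcardX (center G) inferInstance]
      refine Nat.card_congr ⟨fun a => ⟨a.1.1, ?_, a.1.2.2⟩, fun a => ⟨⟨a.1, center_le_cx z a.2.1, a.2.2⟩, ?_⟩,
        fun a => rfl, fun a => rfl⟩
      · by_contra haZ
        have h1 := congrArg Subtype.val (a.2 ⟨g, mem_zpowers g⟩)
        change g * a.1.1 * g⁻¹ = a.1.1 at h1
        have h2 : g ∈ Cx a.1.1 := mem_centralizer_singleton_iff.mpr (mul_inv_eq_iff_eq_mul.mp h1)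
        rw [← hCA z a.1.1 hz haZ a.1.2.1] at h2
        exact hgA h2
      · intro w
        apply Subtype.ext
        show (w : G) * a.1 * (w : G)⁻¹ = a.1
        rw [mem_center_iff.mp a.2.1 w, mul_inv_cancel_right]
    rw [hfix, show Nat.card X = s ^ (Nat.card A).factorization s from hcardX A inferInstance,
      show Nat.card A = m * n by rw [hcard z x₀ hz hx₀, ← hA₀, hc, hcn],
      Nat.factorization_mul hm0.ne' hn0, Finsupp.add_apply, (hnr s hs hys).1, ← hm, pow_succ] at hmod
    have h1 : r ∣ s ^ m.factorization s * s - s ^ m.factorization s :=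
      (Nat.modEq_iff_dvd' (Nat.le_mul_of_pos_right _ hs.pos)).mp hmod.symm
    rw [← Nat.mul_sub_one] at h1
    exact ((hr.dvd_mul).mp h1).resolve_left fun h =>
      hrs ((Nat.prime_dvd_prime_iff_eq hr hs).mp (hr.dvd_of_dvd_pow h))
  obtain h1 := final p q hp hq hne ⟨x₀, hx₀, hx₀k⟩ hy
  obtain h2 := final q p hq hp (Ne.symm hne) hy ⟨x₀, hx₀, hx₀k⟩
  have h3 := Nat.le_of_dvd (by have := hq.two_le; omega) h1
  have h4 := Nat.le_of_dvd (by have := hp.two_le; omega) h2
  omega

/-- Itô's structure theorem. -/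
theorem structure_two_sizes [Finite G] {n : ℕ} (hn : ∀ x : G, x ∉ center G → (Cx x).index = n)
    {x : G} (hx : x ∉ center G) :
    ∃ (p : ℕ) (_ : Fact p.Prime) (a : ℕ), n = p ^ a ∧ ∀ P : Sylow p G, (P : Subgroup G).Normal ∧
      (∃ N : Subgroup G, N.Normal ∧ N.IsComplement' (P : Subgroup G) ∧ IsMulCommutative N ∧
        ∀ x ∈ N, ∀ y ∈ (P : Subgroup G), x * y = y * x) ∧
      ∃ A : Subgroup (P : Subgroup G), A.Normal ∧ IsMulCommutative A ∧
        ∀ y : (P : Subgroup G), y ^ p ∈ A := by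
  classical
  obtain ⟨p, hp, u, huZ, hu, -⟩ := exists_part hx
  haveI := Fact.mk hp
  have hother : ∀ q : ℕ, q.Prime → q ≠ p → ∀ g : G, (∃ k : ℕ, g ^ q ^ k = 1) → g ∈ center G :=
    fun q hq hqp g hg => by_contra fun hgZ => prime_unique hn hp hq (Ne.symm hqp) ⟨u, huZ, hu⟩ ⟨g, hgZ, hg⟩
  have hpn : ∀ q : ℕ, q.Prime → q ∣ n → q = p := by
    intro q hq hd
    by_contra hqp
    haveI := Fact.mk hq
    obtain ⟨Q⟩ := (inferInstance : Nonempty (Sylow q G))
    have hle : (Q : Subgroup G) ≤ Cx x := fun w hw => center_le_cx x (hother q hq hqp w (by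
      obtain ⟨k, hk⟩ := Q.isPGroup' ⟨w, hw⟩
      exact ⟨k, by simpa [Subtype.ext_iff] using hk⟩))
    exact Q.not_dvd_index' (fun h0 => index_ne_zero_of_finite h0)
      ((hn x hx ▸ hd : q ∣ (Cx x).index).trans (index_dvd_of_le hle))
  refine ⟨p, inferInstance, n.primeFactorsList.length, ?_, fun P => ?_⟩
  · exact Nat.eq_prime_pow_of_unique_prime_dvd (hn x hx ▸ index_ne_zero_of_finite) fun {q} hq hd => hpn q hq hd
  have hPn : (P : Subgroup G).Normal := by
    refine normalizer_eq_top_iff.mp (index_eq_one.mp (by_contra fun hne => ?_))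
    obtain ⟨q, hq, hd⟩ := Nat.exists_prime_and_dvd hne
    haveI := Fact.mk hq
    by_cases hqp : q = p
    · subst hqp
      exact P.not_dvd_index' (fun h0 => index_ne_zero_of_finite h0) (hd.trans (index_dvd_of_le le_normalizer))
    · obtain ⟨Q⟩ := (inferInstance : Nonempty (Sylow q G))
      have hle : (Q : Subgroup G) ≤ normalizer ((P : Subgroup G) : Set G) := fun w hw => by
        obtain ⟨k, hk⟩ := Q.isPGroup' ⟨w, hw⟩
        exact center_le_normalizer _ (hother q hq hqp w ⟨k, by simpa [Subtype.ext_iff] using hk⟩)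
      exact Q.not_dvd_index' (fun h0 => index_ne_zero_of_finite h0) (hd.trans (index_dvd_of_le hle))
  haveI := hPn
  obtain ⟨N, hN⟩ := exists_right_complement'_of_coprime P.card_coprime_index
  have hNZ : N ≤ center G := by
    have h1 : (center G).subgroupOf N = ⊤ := top_of_primePow fun q hq w hw => by
      rw [mem_subgroupOf]
      obtain ⟨k, hk⟩ := hw
      by_cases hqp : q = p
      · subst hqp
        have h2 : orderOf w ∣ q ^ k := orderOf_dvd_of_pow_eq_one hk
        have h3 : orderOf w ∣ (P : Subgroup G).index := by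
          rw [hN.symm.index_eq_card]; exact orderOf_dvd_natCard w
        obtain ⟨i, -, hi⟩ := (Nat.dvd_prime_pow hq).mp h2
        have hi0 : i = 0 := by
          by_contra hi0
          rw [hi] at h3
          exact P.not_dvd_index' (fun h0 => index_ne_zero_of_finite h0) ((dvd_pow_self q hi0).trans h3)
        rw [hi0, pow_zero, orderOf_eq_one_iff] at hi
        simp [hi]
      · exact hother q hq hqp (w : G) ⟨k, by simpa [Subtype.ext_iff] using hk⟩
    exact subgroupOf_eq_top.mp h1
  haveI : N.Normal := ⟨fun w hw g => by rwa [mem_center_iff.mp (hNZ hw) g, mul_inv_cancel_right]⟩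
  refine ⟨hPn, ⟨N, inferInstance, hN.symm, ⟨⟨fun a b => Subtype.ext
    (mem_center_iff.mp (hNZ b.2) a)⟩⟩, fun w hw y _ => (mem_center_iff.mp (hNZ hw) y).symm⟩, ?_⟩
  refine pgroup_abelian_normal P.isPGroup' fun a b ha hb hab => ?_
  have hout : ∀ c : (P : Subgroup G), c ∉ center (P : Subgroup G) → (c : G) ∉ center G :=
    fun c hc h => hc (mem_center_iff.mpr fun d => Subtype.ext (mem_center_iff.mp h d))
  have hle : (Cx (a : G)) ≤ Cx (b : G) := by
    intro g hg
    obtain ⟨⟨v, w⟩, hvw⟩ := hN.2 g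
    simp only at hvw
    rw [mem_centralizer_singleton_iff] at hg ⊢
    rw [← hvw] at hg ⊢
    have hw := hNZ w.2
    have h1 : (v : G) * a = a * v := by
      rw [mul_assoc, ← mem_center_iff.mp hw a, ← mul_assoc, ← mul_assoc] at hg
      exact mul_right_cancel hg
    have hv : (⟨v, v.2⟩ : (P : Subgroup G)) ∈ Cx b :=
      hab (mem_centralizer_singleton_iff.mpr (Subtype.ext h1))
    have h2 : (v : G) * b = b * v := congrArg Subtype.val (mem_centralizer_singleton_iff.mp hv)
    rw [mul_assoc, ← mem_center_iff.mp hw b, ← mul_assoc, h2, mul_assoc]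
  have heq : (Cx (a : G)) = Cx (b : G) := eq_of_le_of_card_ge hle (le_of_eq (by
    have h1 := card_mul_index (Cx (a : G))
    have h2 := card_mul_index (Cx (b : G))
    rw [hn _ (hout a ha)] at h1
    rw [hn _ (hout b hb), ← h1] at h2
    exact Nat.eq_of_mul_eq_mul_right (Nat.pos_of_ne_zero (hn x hx ▸ index_ne_zero_of_finite)) h2))
  refine le_antisymm hab fun c hc => ?_
  have h1 : (c : G) ∈ Cx (a : G) := heq ▸ mem_centralizer_singleton_iff.mpr
    (congrArg Subtype.val (mem_centralizer_singleton_iff.mp hc))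
  exact mem_centralizer_singleton_iff.mpr (Subtype.ext (mem_centralizer_singleton_iff.mp h1))

end Cfsg.Lib.TwoSizes
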